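import Groth.Agent.ProjDim.Regular
import Groth.Agent.UFDLib.Nagata
import Groth.Agent.DepthLib.RegularQuotient
import Groth.Agent.RegularSerre.Localization
import Groth.Agent.S6862

/-!
# Regular local rings are factorial
-/

set_option autoImplicit false
set_option linter.unusedSectionVars false

universe u

namespace Groth.Agent.AuslBuchs

open IsLocalRing CategoryTheory

/-- A stably free ideal of a domain is principal. -/
theorem isPrincipal_of_isStablyFree {B : Type u} [CommRing B] [IsDomain B] [IsNoetherianRing B] (P : Ideal B)
    [Module.IsStablyFree B P] : Submodule.IsPrincipal P := by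
  classical
  rcases eq_or_ne P ⊥ with rfl | hP
  · exact bot_isPrincipal
  obtain ⟨x₀, hx₀P, hx₀⟩ := Submodule.exists_mem_ne_zero_of_ne_bot hP
  obtain ⟨N, _, _, _, _, _⟩ := Module.IsStablyFree.exist_free_prod B P
  let eN := (Module.finBasis B N).equivFun
  let a := Module.finrank B N
  let e₀ : (P × N) ≃ₗ[B] (Fin (Module.finrank B (P × N)) → B) := (Module.finBasis B (P × N)).equivFun
  let J : (P × N) →ₗ[B] (Fin (a + 1) → B) :=
    { toFun := fun z => Fin.cons (z.1 : B) (eN z.2)
      map_add' := fun z w => funext fun i => by refine Fin.cases ?_ (fun j => ?_) i <;> simp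
      map_smul' := fun c z => funext fun i => by refine Fin.cases ?_ (fun j => ?_) i <;> simp }
  have hJ : Function.Injective J := fun z w h =>
    Prod.ext (Subtype.ext (congrFun h 0)) (eN.injective (funext fun i => congrFun h i.succ))
  let K : B → P → (Fin (a + 1) → B) →ₗ[B] P × N := fun _ y =>
    { toFun := fun w => (w 0 • y, eN.symm (Fin.tail w))
      map_add' := fun w w' => Prod.ext (add_smul _ _ _) (by
        show eN.symm (Fin.tail (w + w')) = eN.symm (Fin.tail w) + eN.symm (Fin.tail w')
        rw [← map_add]; rfl)
      map_smul' := fun c w => Prod.ext (mul_smul _ _ _) (by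
        show eN.symm (Fin.tail (c • w)) = c • eN.symm (Fin.tail w)
        rw [← map_smul]; rfl) }
  have hJK : ∀ y : P, J ∘ₗ K 0 y = Matrix.toLin' (Matrix.diagonal (Fin.cons (y : B) fun _ : Fin a => (1 : B))) := by
    intro y
    refine LinearMap.ext fun w => funext fun i => ?_
    rw [Matrix.toLin'_apply, Matrix.mulVec_diagonal]
    show (Fin.cons ((w 0 • y : P) : B) (eN (eN.symm (Fin.tail w))) : Fin (a + 1) → B) i = _
    refine Fin.cases ?_ (fun j => ?_) i
    · simp [mul_comm]
    · simp [Fin.tail]
  have hK : Function.Injective (K 0 ⟨x₀, hx₀P⟩) := by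
    refine Function.Injective.of_comp (f := J) ?_
    rw [← LinearMap.coe_comp, hJK]
    intro w w' h
    funext i
    have h1 := congrFun h i
    rw [Matrix.toLin'_apply, Matrix.toLin'_apply, Matrix.mulVec_diagonal, Matrix.mulVec_diagonal] at h1
    refine mul_left_cancel₀ ?_ h1
    refine Fin.cases ?_ (fun j => ?_) i <;> simp [hx₀]
  have hrank : Module.finrank B (P × N) = a + 1 := by
    refine le_antisymm ?_ ?_
    · simpa using LinearMap.finrank_le_finrank_of_injective hJ
    · simpa using LinearMap.finrank_le_finrank_of_injective hK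
  let e : (Fin (a + 1) → B) ≃ₗ[B] P × N := ((e₀.trans (LinearEquiv.funCongrLeft B B (finCongr hrank.symm))).symm)
  let φ : (Fin (a + 1) → B) →ₗ[B] (Fin (a + 1) → B) := J ∘ₗ e.toLinearMap
  refine ⟨LinearMap.det φ, le_antisymm (fun y hy => ?_) ((Ideal.span_singleton_le_iff_mem _).mpr ?_)⟩
  · have h : φ ∘ₗ (e.symm.toLinearMap ∘ₗ K 0 ⟨y, hy⟩) = J ∘ₗ K 0 ⟨y, hy⟩ :=
      LinearMap.ext fun w => by simp [φ]
    have h1 := congrArg LinearMap.det h
    rw [LinearMap.det_comp, hJK, LinearMap.det_toLin', Matrix.det_diagonal, Fin.prod_univ_succ] at h1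
    simp at h1
    exact Ideal.mem_span_singleton.mpr ⟨_, h1.symm⟩
  · rw [← LinearMap.det_toMatrix', Matrix.det_succ_row_zero]
    refine Ideal.sum_mem _ fun j _ => ?_
    refine Ideal.mul_mem_right _ _ (Ideal.mul_mem_left _ _ ?_)
    rw [LinearMap.toMatrix'_apply]
    exact (e _).1.2

/-- A projective localisation of a module of finite projective dimension over a local ring is stably free. -/
theorem isStablyFree_localized {A : Type u} [CommRing A] [IsLocalRing A] [IsNoetherianRing A] (S : Submonoid A) :
    ∀ (n : ℕ) (M : Type u) [AddCommGroup M] [Module A M] [Module.Finite A M],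
      HasProjectiveDimensionLT (ModuleCat.of A M) (n + 1) →
      Module.Projective (Localization S) (LocalizedModule S M) →
      Module.IsStablyFree (Localization S) (LocalizedModule S M) := by
  intro n
  induction n with
  | zero =>
    intro M _ _ _ h _
    haveI : Module.Projective A M := (ProjDim.projDim_zero_iff M).mp h
    haveI : Module.Free A M := Module.free_of_flat_of_isLocalRing
    haveI : Module.Free (Localization S) (LocalizedModule S M) :=
      Module.Free.of_equiv (LocalizedModule.equivTensorProduct S M).symm
    infer_instance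
  | succ n ih =>
    intro M _ _ _ h hproj
    obtain ⟨m, g, hg⟩ := Module.Finite.exists_fin' A M
    obtain ⟨f', g', hf', hex, hg'⟩ := ProjDim.loc_ses S (LinearMap.ker g).subtype g Subtype.val_injective
      (LinearMap.exact_subtype_ker_map g) hg
    have hK := (ProjDim.shift_iff (LinearMap.ker g).subtype g Subtype.val_injective
      (LinearMap.exact_subtype_ker_map g) hg n).mp h
    haveI : Module.Free (Localization S) (LocalizedModule S (Fin m → A)) :=
      Module.Free.of_equiv (LocalizedModule.equivTensorProduct S (Fin m → A)).symm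
    haveI := hproj
    obtain ⟨s, hs⟩ := Module.projective_lifting_property g' LinearMap.id hg'
    let ef := LinearEquiv.ofInjective f' hf'
    let r : LocalizedModule S (Fin m → A) →ₗ[Localization S] LocalizedModule S (LinearMap.ker g) :=
      ef.symm.toLinearMap ∘ₗ (LinearMap.id - s ∘ₗ g').codRestrict (LinearMap.range f') fun y => by
        refine (hex _).mp ?_
        have h1 := LinearMap.congr_fun hs (g' y)
        simp only [LinearMap.comp_apply, LinearMap.id_apply] at h1
        simp [h1]
    haveI : Module.Projective (Localization S) (LocalizedModule S (LinearMap.ker g)) :=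
      Module.Projective.of_split f' r (LinearMap.ext fun z => by
        have h1 : g' (f' z) = 0 := (hex _).mpr ⟨z, rfl⟩
        apply ef.injective
        apply Subtype.ext
        simp [r, ef, h1])
    have hKs := ih (LinearMap.ker g) hK inferInstance
    exact (Groth.Agent.S6862.result f' g' hf' hg' hex).1 hKs inferInstance

section

variable {A : Type u} [CommRing A] (S : Submonoid A)

/-- The localised module of an ideal is the extended ideal. -/
noncomputable def idealLocEquiv (B : Type u) [CommRing B] [Algebra A B] [IsLocalization S B] (q : Ideal A) :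
    LocalizedModule S q ≃ₗ[A] q.map (algebraMap A B) :=
  IsLocalizedModule.linearEquiv S (LocalizedModule.mkLinearMap S q) (Algebra.idealMap q (S := B))

end

theorem uniqueFactorizationMonoid_of_isField {A : Type u} [CommRing A] [IsDomain A] [IsLocalRing A]
    [IsNoetherianRing A] (h : maximalIdeal A = ⊥) : UniqueFactorizationMonoid A :=
  UniqueFactorizationMonoid.iff_exists_prime_mem_of_isPrime.mpr fun _ hI hIp =>
    absurd (le_bot_iff.mp (h ▸ le_maximalIdeal hIp.ne_top)) hI

/-- The factoriality theorem, by induction on the dimension. -/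
theorem ufd_aux (n : ℕ) : ∀ (A : Type u) [CommRing A] [IsRegularLocalRing A],
    ringKrullDim A ≤ n → UniqueFactorizationMonoid A := by
  induction n with
  | zero =>
    intro A _ _ hn
    haveI := DepthLib.isDomain_of_isRegularLocalRing A
    refine uniqueFactorizationMonoid_of_isField ?_
    have h1 : ((maximalIdeal A).spanFinrank : WithBot ℕ∞) ≤ ((0 : ℕ) : WithBot ℕ∞) := by
      rw [IsRegularLocalRing.spanFinrank_maximalIdeal]; exact hn
    exact (Submodule.spanFinrank_eq_zero_iff_eq_bot (IsNoetherian.noetherian _)).mp
      (Nat.le_zero.mp (by exact_mod_cast h1))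
  | succ n ih =>
    intro A _ _ hn
    haveI := DepthLib.isDomain_of_isRegularLocalRing A
    by_cases hbot : maximalIdeal A = ⊥
    · exact uniqueFactorizationMonoid_of_isField hbot
    obtain ⟨x, hxm, hx2⟩ : ∃ x ∈ maximalIdeal A, x ∉ maximalIdeal A ^ 2 := by
      by_contra hall
      push Not at hall
      refine hbot (Submodule.eq_bot_of_le_smul_of_le_jacobson_bot (maximalIdeal A) (maximalIdeal A)
        (IsNoetherian.noetherian _) ?_ (jacobson_eq_maximalIdeal ⊥ bot_ne_top).ge)
      rw [smul_eq_mul, ← pow_two]
      exact hall
    obtain ⟨k, hk⟩ : ∃ k, (maximalIdeal A).spanFinrank = k + 1 := by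
      refine Nat.exists_eq_succ_of_ne_zero fun h0 => hbot ?_
      exact (Submodule.spanFinrank_eq_zero_iff_eq_bot (IsNoetherian.noetherian _)).mp h0
    obtain ⟨hreg, -⟩ := DepthLib.isRegularLocalRing_quotient_singleton hk hxm hx2
    haveI := hreg
    haveI := DepthLib.isDomain_of_isRegularLocalRing (A ⧸ Ideal.span {x})
    have hx0 : x ≠ 0 := fun h => hx2 (h ▸ zero_mem _)
    have hxp : Prime x :=
      (Ideal.span_singleton_prime hx0).mp ((Ideal.Quotient.isDomain_iff_prime _).mp inferInstance)
    let S := Submonoid.powers x
    let B := Localization S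
    haveI : IsDomain B := IsLocalization.isDomain_localization (powers_le_nonZeroDivisors_of_noZeroDivisors hx0)
    haveI : IsNoetherianRing B := IsLocalization.isNoetherianRing S B inferInstance
    suffices hB : UniqueFactorizationMonoid B by
      haveI := hB
      exact UFDLib.ufm_of_away hxp B
    refine UniqueFactorizationMonoid.iff_exists_prime_mem_of_isPrime.mpr fun I hI hIp => ?_
    obtain ⟨b, hbI, hb0⟩ := Submodule.exists_mem_ne_zero_of_ne_bot hI
    haveI := hIp
    obtain ⟨P, hP, hPI⟩ := Ideal.exists_minimalPrimes_le ((Ideal.span_singleton_le_iff_mem I).mpr hbI)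
    haveI := hP.1.1
    have hPne : P ≠ ⊥ := fun h => hb0 (by
      have := hP.1.2 (Ideal.subset_span rfl)
      rwa [h, Ideal.mem_bot] at this)
    let q := P.comap (algebraMap A B)
    have hPq : q.map (algebraMap A B) = P := IsLocalization.map_comap S B P
    let e : LocalizedModule S q ≃ₗ[B] P :=
      (idealLocEquiv S B q ≪≫ₗ (LinearEquiv.ofEq _ _ hPq).restrictScalars A).extendScalarsOfIsLocalization S B
    have hlocfree : ∀ (Q : Ideal B) [Q.IsMaximal],
        Module.Projective (Localization.AtPrime Q) (LocalizedModule Q.primeCompl P) := fun Q hQ => by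
      have hQm : Q.comap (algebraMap A B) < maximalIdeal A := by
        refine lt_of_le_of_ne (le_maximalIdeal (Ideal.comap_ne_top _ hQ.ne_top)) fun h => ?_
        exact hQ.ne_top (Q.eq_top_of_isUnit_mem (Ideal.mem_comap.mp (h.ge hxm))
          (IsLocalization.map_units B (⟨x, Submonoid.mem_powers x⟩ : S)))
      haveI : IsRegularLocalRing (Localization.AtPrime (Q.comap (algebraMap A B))) :=
        RegularSerre.isRegularLocalRing_localization _
      have hufd : UniqueFactorizationMonoid (Localization.AtPrime (Q.comap (algebraMap A B))) := by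
        refine ih _ ?_
        rw [IsLocalization.AtPrime.ringKrullDim_eq_height (Q.comap (algebraMap A B))]
        have h1 : (Q.comap (algebraMap A B)).height + 1 ≤ (maximalIdeal A).height :=
          Ideal.height_add_one_le_of_lt_of_isPrime hQm
        rw [← maximalIdeal_height_eq_ringKrullDim] at hn
        have h2 : (maximalIdeal A).height ≤ ((n : ℕ∞) + 1) := by exact_mod_cast hn
        exact_mod_cast (ENat.add_le_add_iff_right ENat.one_ne_top).mp (h1.trans h2)
      haveI : UniqueFactorizationMonoid (Localization.AtPrime Q) :=
        MulEquiv.uniqueFactorizationMonoid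
          (IsLocalization.localizationLocalizationAtPrimeIsoLocalization S Q).toRingEquiv.toMulEquiv hufd
      haveI : IsDomain (Localization.AtPrime Q) :=
        IsLocalization.isDomain_localization Q.primeCompl_le_nonZeroDivisors
      let PQ := P.map (algebraMap B (Localization.AtPrime Q))
      let e' : LocalizedModule Q.primeCompl P ≃ₗ[Localization.AtPrime Q] PQ :=
        (idealLocEquiv Q.primeCompl (Localization.AtPrime Q) P).extendScalarsOfIsLocalization Q.primeCompl
          (Localization.AtPrime Q)
      have hinj : Function.Injective (algebraMap B (Localization.AtPrime Q)) :=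
        IsLocalization.injective _ Q.primeCompl_le_nonZeroDivisors
      obtain ⟨π, hπ0, hπ⟩ : ∃ π, π ≠ 0 ∧ PQ = Ideal.span {π} := by
        by_cases hle : P ≤ Q
        · have hdisj : Disjoint (Q.primeCompl : Set B) (P : Set B) :=
            Set.disjoint_left.mpr fun y hy hy' => hy (hle hy')
          haveI hPQp : PQ.IsPrime := IsLocalization.isPrime_of_isPrime_disjoint Q.primeCompl _ P inferInstance hdisj
          have hcomap : PQ.comap (algebraMap B _) = P :=
            IsLocalization.under_map_of_isPrime_disjoint Q.primeCompl _ inferInstance hdisj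
          have hbP : algebraMap B (Localization.AtPrime Q) b ∈ PQ :=
            Ideal.mem_map_of_mem _ (hP.1.2 (Ideal.subset_span rfl))
          obtain ⟨π, hπmem, hπ⟩ : ∃ π ∈ PQ, Prime π ∧ π ∣ algebraMap B (Localization.AtPrime Q) b := by
            have hb' : algebraMap B (Localization.AtPrime Q) b ≠ 0 := (map_ne_zero_iff _ hinj).mpr hb0
            obtain ⟨f, hf, hfb⟩ := UniqueFactorizationMonoid.exists_prime_factors _ hb'
            obtain ⟨u, hu⟩ := hfb
            rw [← hu] at hbP
            obtain ⟨π, hπf, hπP⟩ := (hPQp.multiset_prod_mem_iff_exists_mem f).mp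
              ((hPQp.mem_or_mem hbP).resolve_right fun h => hPQp.ne_top (PQ.eq_top_of_isUnit_mem h u.isUnit))
            exact ⟨π, hπP, hf π hπf, (Multiset.dvd_prod hπf).trans ⟨u, hu.symm⟩⟩
          refine ⟨π, hπ.1.ne_zero, le_antisymm ?_ ((Ideal.span_singleton_le_iff_mem _).mpr hπmem)⟩
          rw [Ideal.map_le_iff_le_comap]
          haveI := (Ideal.span_singleton_prime hπ.1.ne_zero).mpr hπ.1
          refine hP.2 ⟨Ideal.IsPrime.comap _, ?_⟩ ?_
          · rw [Ideal.span_singleton_le_iff_mem, Ideal.mem_comap, Ideal.mem_span_singleton]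
            exact hπ.2
          · rw [← hcomap]
            exact Ideal.comap_mono ((Ideal.span_singleton_le_iff_mem _).mpr hπmem)
        · obtain ⟨y, hyP, hyQ⟩ := SetLike.not_le_iff_exists.mp hle
          refine ⟨1, one_ne_zero, ?_⟩
          rw [Ideal.span_singleton_one]
          exact PQ.eq_top_of_isUnit_mem (Ideal.mem_map_of_mem _ hyP)
            (IsLocalization.map_units (Localization.AtPrime Q) (⟨y, hyQ⟩ : Q.primeCompl))
      haveI : Module.Free (Localization.AtPrime Q) PQ :=
        Module.Free.of_equiv ((LinearEquiv.toSpanNonzeroSingleton (Localization.AtPrime Q) _ π hπ0).trans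
          (LinearEquiv.ofEq _ _ hπ.symm))
      haveI : Module.Free (Localization.AtPrime Q) (LocalizedModule Q.primeCompl P) := Module.Free.of_equiv e'.symm
      infer_instance
    haveI : Module.FinitePresentation B P := Module.finitePresentation_of_finite B P
    haveI : Module.Projective B P := Module.projective_of_localization_maximal fun Q hQ => @hlocfree Q hQ
    haveI : Module.Projective B (LocalizedModule S q) := Module.Projective.of_equiv e.symm
    have hd : ringKrullDim A = (((maximalIdeal A).spanFinrank : ℕ) : WithBot ℕ∞) :=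
      IsRegularLocalRing.spanFinrank_maximalIdeal.symm
    haveI := isStablyFree_localized S _ q (ProjDim.gldim_le_of_regularLocal A _ hd (ModuleCat.of A q)) inferInstance
    haveI : Module.IsStablyFree B P := Module.IsStablyFree.equiv e
    obtain ⟨g, hg⟩ := (isPrincipal_of_isStablyFree P).principal
    have hg0 : g ≠ 0 := fun h => hPne (by rw [hg, h, Submodule.span_singleton_eq_bot])
    exact ⟨g, hPI (hg ▸ Submodule.mem_span_singleton_self g),
      (Ideal.span_singleton_prime hg0).mp (by rw [Ideal.span, ← hg]; infer_instance)⟩

/-- Regular local rings are factorial. -/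
theorem uniqueFactorizationMonoid_of_isRegularLocalRing (A : Type u) [CommRing A] [IsRegularLocalRing A] :
    UniqueFactorizationMonoid A :=
  ufd_aux (maximalIdeal A).spanFinrank A IsRegularLocalRing.spanFinrank_maximalIdeal.ge

end Groth.Agent.AuslBuchs
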